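import Groth.Agent.SteinConn.Conn
import Groth.Agent.ASp.PropDescend

/-!
# Proper schemes with a section and integral generic fibre over a normal base have connected fibres
-/

set_option autoImplicit false
set_option backward.isDefEq.respectTransparency false
set_option linter.style.haveILetI false
universe u

open CategoryTheory CategoryTheory.Limits AlgebraicGeometry TopologicalSpace

noncomputable section

namespace Groth.Agent.NeronGrpLib

/-- Functions on a proper scheme with a section and with integral dominant generic fibre come from the base. -/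
theorem bijApp_of_section {X S : Scheme.{u}} [IsReduced X] (f : X ⟶ S) (s : S ⟶ X) (hs : s ≫ f = 𝟙 S)
    {K : Type u} [Field K] {XK : Scheme.{u}} [IsIntegral XK] (fK : XK ⟶ Spec (CommRingCat.of K)) [UniversallyClosed fK]
    (j : XK ⟶ X) [IsDominant j] (g : Spec (CommRingCat.of K) ⟶ S) (hj : j ≫ f = fK ≫ g)
    (sK : Spec (CommRingCat.of K) ⟶ XK) (hsK : sK ≫ j = g ≫ s) : RigidLib.BijApp f := by
  intro V
  have hsV : s ⁻¹ᵁ (f ⁻¹ᵁ V) = V := by
    rw [← Scheme.Hom.comp_preimage, hs]
    rfl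
  have hid : f.app V ≫ s.app (f ⁻¹ᵁ V) = S.presheaf.map (eqToHom hsV).op := by
    rw [← Scheme.Hom.comp_app, Scheme.Hom.congr_app hs V]
    simp
  haveI : IsIso (f.app V ≫ s.app (f ⁻¹ᵁ V)) := by rw [hid]; infer_instance
  have hsplit := ConcreteCategory.bijective_of_isIso (f.app V ≫ s.app (f ⁻¹ᵁ V))
  have hinj : Function.Injective (s.app (f ⁻¹ᵁ V)).hom := by
    refine (injective_iff_map_eq_zero _).2 fun x hx => ?_
    have h0 : (X.basicOpen x) = ⊥ := by
      by_contra hne
      obtain ⟨z, hz⟩ := (IsDominant.denseRange (f := j)).exists_mem_open (X.basicOpen x).2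
        (Set.nonempty_iff_ne_empty.2 fun h => hne (Opens.ext h))
      have hzV : z ∈ j ⁻¹ᵁ (f ⁻¹ᵁ V) := (X.basicOpen_le x) hz
      have hgV : g ⁻¹ᵁ V = ⊤ := by
        ext t
        simp only [Opens.coe_top, Set.mem_univ, iff_true]
        show g t ∈ V
        have : t = fK z := Subsingleton.elim (α := PrimeSpectrum K) _ _
        rw [this, ← Scheme.Hom.comp_apply, ← hj, Scheme.Hom.comp_apply]
        exact hzV
      have hjV : j ⁻¹ᵁ (f ⁻¹ᵁ V) = ⊤ := by
        rw [← Scheme.Hom.comp_preimage, hj, Scheme.Hom.comp_preimage, hgV]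
        rfl
      let y : Γ(XK, ⊤) := (j.app (f ⁻¹ᵁ V) ≫ XK.presheaf.map (eqToHom hjV.symm).op).hom x
      letI := (isField_of_universallyClosed K fK).toField
      have hy : y = 0 := by
        refine (RingHom.injective (sK.appTop).hom) ?_
        rw [map_zero]
        show ((j.app (f ⁻¹ᵁ V) ≫ XK.presheaf.map (eqToHom hjV.symm).op) ≫ sK.appTop).hom x = 0
        have e : (j.app (f ⁻¹ᵁ V) ≫ XK.presheaf.map (eqToHom hjV.symm).op) ≫ sK.appTop =
            s.app (f ⁻¹ᵁ V) ≫ g.appLE (s ⁻¹ᵁ (f ⁻¹ᵁ V)) ⊤ (by rw [hsV, hgV]) := by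
          rw [Scheme.Hom.app_eq_appLE, Scheme.Hom.app_eq_appLE, Scheme.Hom.appTop, Scheme.Hom.app_eq_appLE,
            Scheme.Hom.appLE_map, Scheme.Hom.appLE_comp_appLE, Scheme.Hom.appLE_comp_appLE]
          simp only [hsK]
          rfl
        rw [e, CommRingCat.comp_apply, hx, map_zero]
      have h1 : z ∈ j ⁻¹ᵁ (X.basicOpen x) := hz
      rw [Scheme.preimage_basicOpen] at h1
      have h2 : XK.basicOpen y = XK.basicOpen (j.app (f ⁻¹ᵁ V) x) ⊓ ⊤ := by
        show XK.basicOpen ((XK.presheaf.map (eqToHom hjV.symm).op).hom (j.app (f ⁻¹ᵁ V) x)) = _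
        rw [Scheme.basicOpen_res, inf_comm]
      rw [hy, Scheme.basicOpen_zero, inf_top_eq] at h2
      rw [← h2] at h1
      exact h1
    exact eq_zero_of_basicOpen_eq_bot x h0
  refine ⟨fun a b hab => hsplit.1 (congrArg (s.app (f ⁻¹ᵁ V)).hom hab), fun x => ?_⟩
  obtain ⟨r, hr⟩ := hsplit.2 ((s.app (f ⁻¹ᵁ V)).hom x)
  exact ⟨r, hinj hr⟩

end Groth.Agent.NeronGrpLib
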