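import Mathlib

/-!
# Group structures along functors that are fully faithful towards an object
-/

set_option autoImplicit false
set_option linter.style.haveILetI false

open CategoryTheory MonoidalCategory CartesianMonoidalCategory MonObj
open Functor.Monoidal Functor.LaxMonoidal Functor.OplaxMonoidal

noncomputable section

namespace Groth.Agent.NeronGrpLib

variable {C D : Type*} [Category C] [Category D] [CartesianMonoidalCategory C] [CartesianMonoidalCategory D]
  (F : C ⥤ D) [F.Monoidal] (N : C) [GrpObj (F.obj N)] (P : C → Prop)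

/-- A group structure on an object is obtained from one on its image when morphisms into it are detected there. -/
theorem exists_grpObj (h1 : P (𝟙_ C)) (hN : P N) (h2 : ∀ X Y, P X → P Y → P (X ⊗ Y))
    (hb : ∀ X, P X → Function.Bijective (fun g : X ⟶ N => F.map g)) :
    ∃ _ : GrpObj N, True := by
  have hNN := h2 N N hN hN
  obtain ⟨o, ho⟩ := (hb _ h1).2 (1 : F.obj (𝟙_ C) ⟶ F.obj N)
  obtain ⟨m, hm⟩ := (hb _ hNN).2 (F.map (fst N N) * F.map (snd N N))
  obtain ⟨iv, hiv⟩ := (hb _ hN).2 ((𝟙 (F.obj N))⁻¹)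
  simp only at ho hm hiv
  have hmul : ∀ {X : C} (f g : X ⟶ N), F.map (lift f g ≫ m) = F.map f * F.map g := fun {X} f g => by
    rw [F.map_comp, hm, MonObj.comp_mul, ← F.map_comp, ← F.map_comp, lift_fst, lift_snd]
  have hone : ∀ {X : C}, F.map (toUnit X ≫ o) = 1 := fun {X} => by
    rw [F.map_comp, ho, MonObj.comp_one]
  have hinv : ∀ {X : C} (f : X ⟶ N), F.map (f ≫ iv) = (F.map f)⁻¹ := fun {X} f => by
    rw [F.map_comp, hiv, GrpObj.comp_inv, Category.comp_id]
  letI : MonObj N :=
    { one := o
      mul := m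
      one_mul := by
        have e : (o ▷ N ≫ m : 𝟙_ C ⊗ N ⟶ N) = lift (toUnit _ ≫ o) (snd _ _) ≫ m := by
          congr 1
          apply CartesianMonoidalCategory.hom_ext <;> simp [toUnit_unique (fst (𝟙_ C) N) (toUnit _)]
        rw [e, leftUnitor_hom]
        refine (hb _ (h2 _ _ h1 hN)).1 ?_
        show F.map _ = F.map _
        rw [hmul, hone, _root_.one_mul]
      mul_one := by
        have e : (N ◁ o ≫ m : N ⊗ 𝟙_ C ⟶ N) = lift (fst _ _) (toUnit _ ≫ o) ≫ m := by
          congr 1
          apply CartesianMonoidalCategory.hom_ext <;> simp [toUnit_unique (snd N (𝟙_ C)) (toUnit _)]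
        rw [e, rightUnitor_hom]
        refine (hb _ (h2 _ _ hN h1)).1 ?_
        show F.map _ = F.map _
        rw [hmul, hone, _root_.mul_one]
      mul_assoc := by
        have e1 : (m ▷ N ≫ m : (N ⊗ N) ⊗ N ⟶ N) =
            lift (lift (fst _ _ ≫ fst _ _) (fst _ _ ≫ snd _ _) ≫ m) (snd _ _) ≫ m := by
          congr 1
          apply CartesianMonoidalCategory.hom_ext
          · rw [whiskerRight_fst, lift_fst, ← comp_lift, lift_fst_snd, Category.comp_id]
          · rw [whiskerRight_snd, lift_snd]
        have e2 : ((α_ N N N).hom ≫ N ◁ m ≫ m : (N ⊗ N) ⊗ N ⟶ N) =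
            lift (fst _ _ ≫ fst _ _) (lift (fst _ _ ≫ snd _ _) (snd _ _) ≫ m) ≫ m := by
          rw [← Category.assoc]
          congr 1
          apply CartesianMonoidalCategory.hom_ext
          · simp
          · rw [Category.assoc, whiskerLeft_snd, lift_snd]
            refine (Category.assoc _ _ _).symm.trans (congrArg (· ≫ m) ?_)
            refine CartesianMonoidalCategory.hom_ext _ _ ?_ ?_ <;> simp
        rw [e1, e2]
        refine (hb _ (h2 _ _ hNN hN)).1 ?_
        show F.map _ = F.map _
        rw [hmul, hmul, hmul, hmul, _root_.mul_assoc] }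
  refine ⟨{ toMonObj := ‹MonObj N›, inv := iv, left_inv := ?_, right_inv := ?_ }, trivial⟩
  · refine (hb _ hN).1 ?_
    show F.map (lift iv (𝟙 N) ≫ m) = F.map (toUnit N ≫ o)
    rw [hmul, hone, hiv, F.map_id, inv_mul_cancel]
  · refine (hb _ hN).1 ?_
    show F.map (lift (𝟙 N) iv ≫ m) = F.map (toUnit N ≫ o)
    rw [hmul, hone, hiv, F.map_id, mul_inv_cancel]

end Groth.Agent.NeronGrpLib
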