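import Groth.Agent.ChowLib.Main
import Groth.Agent.SteinConn.Apply
import Groth.Agent.GeomIrred.Criteria
import Groth.Agent.BCLib.DVR
import Groth.Agent.ASp.PropDescend

/-!
# Properness from properness of the special fibre

A smooth separated scheme of finite type over a discrete valuation ring, with geometrically integral generic
fibre and with nonempty proper special fibre, is proper: Zariski connectedness on a projective closure of a
Chow cover.
-/

set_option autoImplicit false
set_option backward.isDefEq.respectTransparency false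
set_option linter.style.haveILetI false
set_option linter.unusedSectionVars false

universe u

open CategoryTheory CategoryTheory.Limits AlgebraicGeometry TopologicalSpace

noncomputable section

namespace Groth.Agent.NeronGrpLib

/-- Algebraic elements over a field without separable algebraic elements outside are radicial. -/
theorem exists_pow_mem_range {k L : Type u} [Field k] [Field L] (φ : k →+* L)
    (hsep : ∀ a : L, (letI := φ.toAlgebra; IsSeparable k a) → a ∈ Set.range φ) (y : L)
    (hy : ∃ q : Polynomial k, q ≠ 0 ∧ q.eval₂ φ y = 0) :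
    ∃ N : ℕ, 0 < N ∧ y ^ N ∈ Set.range φ := by
  letI := φ.toAlgebra
  obtain ⟨p, hp⟩ := ExpChar.exists k
  let A := algebraicClosure k L
  have hyA : y ∈ A := mem_algebraicClosure_iff.2 hy
  haveI : ExpChar ↥(separableClosure k A) p :=
    expChar_of_injective_algebraMap (algebraMap k ↥(separableClosure k A)).injective p
  obtain ⟨e, s, hs⟩ := IsPurelyInseparable.pow_mem (↥(separableClosure k A)) p (⟨y, hyA⟩ : A)
  refine ⟨p ^ e, pow_pos (expChar_pos k p) e, hsep _ ?_⟩
  have h1 : IsSeparable k (A.val (s : A)) := by
    exact (mem_separableClosure_iff.1 s.2).map A.val A.val.injective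
  have h2 : A.val (s : A) = y ^ (p ^ e) := congrArg Subtype.val hs
  rwa [h2] at h1

variable {R : Type u} [CommRing R] [IsDomain R] [IsDiscreteValuationRing R]

theorem subsingleton_integralClosure_stalk (y : Spec (CommRingCat.of R)) :
    Subsingleton (MaximalSpectrum (integralClosure ((Spec (CommRingCat.of R)).presheaf.stalk y)
      (Spec (CommRingCat.of R)).functionField)) := by
  let A := (Spec (CommRingCat.of R)).presheaf.stalk y
  letI : Algebra R A := StructureSheaf.stalkAlgebra (CommRingCat.of R) y
  haveI : IsLocalization.AtPrime A y.asIdeal := StructureSheaf.IsLocalization.to_stalk (CommRingCat.of R) y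
  haveI : IsIntegrallyClosed A :=
    isIntegrallyClosed_of_isLocalization A y.asIdeal.primeCompl y.asIdeal.primeCompl_le_nonZeroDivisors
  let K := (Spec (CommRingCat.of R)).functionField
  have hb : integralClosure A K = ⊥ := IsIntegrallyClosed.integralClosure_eq_bot A K
  let q : A →+* integralClosure A K := algebraMap A _
  have hs : Function.Surjective q := fun x => by
    obtain ⟨a, ha⟩ := Algebra.mem_bot.1 (hb ▸ x.2 : (x : K) ∈ (⊥ : Subalgebra A K))
    exact ⟨a, Subtype.ext ha⟩
  haveI : IsLocalRing (integralClosure A K) := IsLocalRing.of_surjective' q hs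
  exact ⟨fun M M' => MaximalSpectrum.ext
    ((IsLocalRing.eq_maximalIdeal M.isMaximal).trans (IsLocalRing.eq_maximalIdeal M'.isMaximal).symm)⟩

/-- A smooth separated scheme of finite type over a discrete valuation ring with geometrically integral generic
fibre and nonempty proper special fibre is proper. -/
theorem isProper_of_isProper_special (K : Type u) [Field K] [Algebra R K] [IsFractionRing R K]
    {X : Scheme.{u}} (f : X ⟶ Spec (CommRingCat.of R)) [Smooth f] [IsSeparated f] [QuasiCompact f]
    (hgi : GeometricallyIntegral (pullback.snd f (Spec.map (CommRingCat.ofHom (algebraMap R K)))))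
    (hne : ∃ x : X, f x = IsLocalRing.closedPoint R)
    [IsProper (pullback.snd f (Spec.map (CommRingCat.ofHom (IsLocalRing.residue R))))] : IsProper f := by
  let Y := Spec (CommRingCat.of R)
  let g := Spec.map (CommRingCat.ofHom (algebraMap R K))
  let g' := Y.fromSpecStalk (genericPoint Y)
  -- the generic fibre over the function field
  haveI : GeometricallyIntegral (pullback.snd f g') := by
    letI : Algebra R Y.functionField := StructureSheaf.stalkAlgebra (CommRingCat.of R) (genericPoint Y)
    haveI : IsFractionRing R Y.functionField := functionField_isFractionRing_of_affine (CommRingCat.of R)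
    have hinj : Function.Injective (algebraMap R Y.functionField) := IsFractionRing.injective R _
    let e := Spec.map (CommRingCat.ofHom (IsFractionRing.lift (K := K) hinj))
    have he : e ≫ g = g' := by
      rw [← Spec.map_comp, ← CommRingCat.ofHom_comp]
      have h1 : (IsFractionRing.lift (K := K) hinj).comp
          (algebraMap R K) = algebraMap R Y.functionField :=
        RingHom.ext fun r => IsFractionRing.lift_algebraMap hinj r
      rw [h1]
      exact (Spec.fromSpecStalk_eq' (R := CommRingCat.of R) (genericPoint Y)).symm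
    let l : pullback f g' ⟶ pullback f g :=
      pullback.lift (pullback.fst f g') (pullback.snd f g' ≫ e)
        (by rw [Category.assoc, he]; exact pullback.condition)
    have hl : IsPullback l (pullback.snd f g') (pullback.snd f g) e :=
      IsPullback.of_right (by rw [pullback.lift_fst, he]; exact IsPullback.of_hasPullback f g')
        (pullback.lift_snd _ _ _) (IsPullback.of_hasPullback f g)
    exact MorphismProperty.of_isPullback hl hgi
  let Xg := pullback f g'
  let a : Xg ⟶ X := pullback.fst f g'
  haveI : Subsingleton ↥(Spec (Y.presheaf.stalk (genericPoint Y))) :=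
    inferInstanceAs (Subsingleton (PrimeSpectrum Y.functionField))
  haveI : AlgebraicGeometry.IsIntegral Xg :=
    GeometricallyIntegral.isIntegral_of_subsingleton (pullback.snd f g')
  have hg' : g' (IsLocalRing.closedPoint _) = genericPoint Y := Scheme.fromSpecStalk_closedPoint
  haveI : IsDominant g' := by
    refine ⟨fun z => closure_mono ?_ (specializes_iff_mem_closure.1 (genericPoint_specializes z))⟩
    exact Set.singleton_subset_iff.2 ⟨_, hg'⟩
  haveI : IsDominant a := by
    rw [isDominant_iff, DenseRange]
    show Dense (Set.range _)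
    rw [Scheme.Pullback.range_fst]
    exact (IsDominant.denseRange (f := g')).preimage f.isOpenMap
  haveI : AlgebraicGeometry.IsReduced X := ASp.isReduced_of_smooth f
  haveI : IrreducibleSpace X := by
    have h := ((IrreducibleSpace.isIrreducible_univ Xg).image a a.continuous.continuousOn).closure
    rw [Set.image_univ, (IsDominant.denseRange (f := a)).closure_range] at h
    haveI : Nonempty X := ⟨a (genericPoint Xg)⟩
    exact { toPreirreducibleSpace := ⟨h.isPreirreducible⟩, toNonempty := inferInstance }
  haveI : AlgebraicGeometry.IsIntegral X := isIntegral_of_irreducibleSpace_of_isReduced X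
  have hηX : a (genericPoint Xg) = genericPoint X := by
    have h : IsGenericPoint (a (genericPoint Xg)) (Set.univ : Set X) := by
      have := (genericPoint_spec Xg).image a.continuous
      rwa [Set.image_univ, (IsDominant.denseRange (f := a)).closure_range] at this
    exact h.eq (genericPoint_spec X)
  have hfη : f (genericPoint X) = genericPoint Y := by
    rw [← hηX, ← Scheme.Hom.comp_apply, pullback.condition, Scheme.Hom.comp_apply]
    exact (congrArg g' (Subsingleton.elim (α := PrimeSpectrum Y.functionField) _ _)).trans hg'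
  -- Chow's lemma
  haveI : IsLocallyNoetherian X := LocallyOfFiniteType.isLocallyNoetherian f
  obtain ⟨n, X', π, j, hj, hjf, hπ, hπs, -, -, hred, hirr, U, hU, hU', hiso⟩ :=
    ChowLib.exists_chow_dense f (by
      rw [irreducibleComponents_eq_singleton]
      exact Set.finite_singleton _)
  haveI := hj
  haveI := hπ
  haveI := hπs
  haveI := hiso
  haveI := hred inferInstance
  haveI := hirr inferInstance
  haveI hP : IsProper (CohB1.ProjSpaceOver.toBase n Y) := BCLib.isProper_toBase n Y
  haveI : QuasiCompact j := by
    haveI : QuasiCompact (j ≫ CohB1.ProjSpaceOver.toBase n Y) := by rw [hjf]; infer_instance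
    exact QuasiCompact.of_comp j (CohB1.ProjSpaceOver.toBase n Y)
  let P := j.image
  let j' : X' ⟶ P := j.toImage
  let fP : P ⟶ Y := j.imageι ≫ CohB1.ProjSpaceOver.toBase n Y
  haveI : IsProper fP := inferInstanceAs (IsProper (_ ≫ _))
  have hj' : j' ≫ fP = π ≫ f := by
    show j.toImage ≫ j.imageι ≫ _ = _
    rw [Scheme.Hom.toImage_imageι_assoc, hjf]
  haveI : IrreducibleSpace P := by
    have h := ((IrreducibleSpace.isIrreducible_univ X').image j' j'.continuous.continuousOn).closure
    rw [Set.image_univ, (IsDominant.denseRange (f := j.toImage)).closure_range] at h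
    haveI : Nonempty P := ⟨j' (genericPoint X')⟩
    exact { toPreirreducibleSpace := ⟨h.isPreirreducible⟩, toNonempty := inferInstance }
  haveI : AlgebraicGeometry.IsReduced P :=
    ⟨fun W => isReduced_of_injective (j'.app W).hom (ChowLib.appInj_toImage j W)⟩
  haveI : AlgebraicGeometry.IsIntegral P := isIntegral_of_irreducibleSpace_of_isReduced P
  haveI : IsLocallyNoetherian P := LocallyOfFiniteType.isLocallyNoetherian fP
  -- the birational map to the projective closure
  let m : U.toScheme ⟶ P := inv (π ∣_ U) ≫ (π ⁻¹ᵁ U).ι ≫ j'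
  have hm : m ≫ fP = U.ι ≫ f := by
    show (inv (π ∣_ U) ≫ (π ⁻¹ᵁ U).ι ≫ j') ≫ fP = _
    simp only [Category.assoc, hj']
    rw [← morphismRestrict_ι_assoc, IsIso.inv_hom_id_assoc]
  haveI : IsDominant (π ⁻¹ᵁ U).ι := by
    rw [isDominant_iff, DenseRange]
    show Dense (Set.range _)
    rw [Scheme.Opens.range_ι]
    exact hU'
  haveI : IsDominant j' := inferInstanceAs (IsDominant j.toImage)
  haveI : IsDominant m := inferInstanceAs (IsDominant (_ ≫ _ ≫ _))
  haveI : IsDominant U.ι := by
    rw [isDominant_iff, DenseRange]
    show Dense (Set.range _)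
    rw [Scheme.Opens.range_ι]
    exact hU
  have hηU : genericPoint X ∈ U :=
    ((genericPoint_spec X).mem_open_set_iff U.2).2 (by simpa using hU.nonempty)
  -- the residue field of the generic fibre
  let L := Xg.residueField (genericPoint Xg)
  let s₀ : Spec L ⟶ Xg := Xg.fromSpecResidueField (genericPoint Xg)
  have hs₀ : Set.range (s₀ ≫ a) ⊆ Set.range U.ι := by
    rintro _ ⟨z, rfl⟩
    rw [Scheme.Opens.range_ι, Scheme.Hom.comp_apply, Scheme.fromSpecResidueField_apply, hηX]
    exact hηU
  let c₀ : Spec L ⟶ U.toScheme := IsOpenImmersion.lift U.ι (s₀ ≫ a) hs₀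
  let c : Spec L ⟶ P := c₀ ≫ m
  have hcf : c ≫ fP = s₀ ≫ pullback.snd f g' ≫ g' := by
    rw [Category.assoc, hm, IsOpenImmersion.lift_fac_assoc, Category.assoc, pullback.condition]
  let φ : Y.functionField →+* L := (Spec.preimage (s₀ ≫ pullback.snd f g')).hom
  have hφ : Spec.map (CommRingCat.ofHom φ) = s₀ ≫ pullback.snd f g' := Spec.map_preimage _
  haveI : Nonempty U.toScheme := ⟨⟨genericPoint X, hηU⟩⟩
  haveI : IrreducibleSpace U.toScheme := Subtype.irreducibleSpace
    ⟨⟨_, hηU⟩, (IrreducibleSpace.isIrreducible_univ X).2.open_subset U.2 (Set.subset_univ _)⟩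
  have hc : c (IsLocalRing.closedPoint L) = genericPoint P := by
    have h1 : c₀ (IsLocalRing.closedPoint L) = (⟨genericPoint X, hηU⟩ : U.toScheme) := by
      apply U.ι.isOpenEmbedding.injective
      rw [← Scheme.Hom.comp_apply, IsOpenImmersion.lift_fac, Scheme.Hom.comp_apply,
        Scheme.fromSpecResidueField_apply, hηX]
      rfl
    have h2 : genericPoint U.toScheme = (⟨genericPoint X, hηU⟩ : U.toScheme) := by
      apply U.ι.isOpenEmbedding.injective
      refine IsGenericPoint.eq (S := (Set.univ : Set X)) ?_ (genericPoint_spec X)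
      have := (genericPoint_spec U.toScheme).image U.ι.continuous
      rwa [Set.image_univ, (IsDominant.denseRange (f := U.ι)).closure_range] at this
    have h3 : IsGenericPoint (m (genericPoint U.toScheme)) (Set.univ : Set P) := by
      have := (genericPoint_spec U.toScheme).image m.continuous
      rwa [Set.image_univ, (IsDominant.denseRange (f := m)).closure_range] at this
    rw [Scheme.Hom.comp_apply, h1, ← h2]
    exact h3.eq (genericPoint_spec P)
  have hdom : fP.base (genericPoint P) ⤳ genericPoint Y := by
    rw [← hc]
    show fP (c (IsLocalRing.closedPoint L)) ⤳ _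
    rw [← Scheme.Hom.comp_apply, hcf, Scheme.Hom.comp_apply, Scheme.Hom.comp_apply]
    exact specializes_of_eq
      ((congrArg g' (Subsingleton.elim (α := PrimeSpectrum Y.functionField) _ _)).trans hg')
  let ψ : P.functionField →+* L :=
    (P.presheaf.stalkSpecializes (specializes_of_eq hc) ≫ Scheme.stalkClosedPointTo c).hom
  have hψ : Spec.map (CommRingCat.ofHom ψ) ≫ P.fromSpecStalk (genericPoint P) = c := by
    show Spec.map (P.presheaf.stalkSpecializes _ ≫ Scheme.stalkClosedPointTo c) ≫ _ = c
    rw [Spec.map_comp, Category.assoc, Scheme.SpecMap_stalkSpecializes_fromSpecStalk,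
      Scheme.Spec_stalkClosedPointTo_fromSpecStalk]
  have hψφ : ψ.comp (CohIII.stalkToFunctionField fP (genericPoint Y) hdom) = φ := by
    have h1 : Spec.map (CommRingCat.ofHom (ψ.comp (CohIII.stalkToFunctionField fP (genericPoint Y) hdom))) ≫ g' =
        Spec.map (CommRingCat.ofHom φ) ≫ g' := by
      rw [hφ, Category.assoc, ← hcf, ← hψ, CommRingCat.ofHom_comp, Spec.map_comp]
      show (_ ≫ Spec.map (Y.presheaf.stalkSpecializes hdom ≫ fP.stalkMap (genericPoint P))) ≫ g' = _
      simp only [Spec.map_comp, Category.assoc, g', Scheme.SpecMap_stalkSpecializes_fromSpecStalk,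
        Scheme.SpecMap_stalkMap_fromSpecStalk]
    rw [cancel_mono g'] at h1
    exact congrArg CommRingCat.Hom.hom (Spec.map_injective h1)
  have hrad : ∀ x : P.functionField,
      (∃ q : Polynomial Y.functionField, q ≠ 0 ∧
        Polynomial.eval₂ (CohIII.stalkToFunctionField fP (genericPoint Y) hdom) x q = 0) →
      ∃ N : ℕ, 0 < N ∧ x ^ N ∈ Set.range (CohIII.stalkToFunctionField fP (genericPoint Y) hdom) := by
    rintro x ⟨q, hq, hqx⟩
    obtain ⟨N, hN, r, hr⟩ := exists_pow_mem_range φ
      (fun b hb => GeomIrred.mem_range_of_geometricallyIrreducible (pullback.snd f g') φ hφ b hb) (ψ x)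
      ⟨q, hq, by rw [← hψφ, ← Polynomial.hom_eval₂, hqx, map_zero]⟩
    refine ⟨N, hN, r, ψ.injective ?_⟩
    rw [map_pow, ← hr, ← hψφ, RingHom.comp_apply]
  -- connectedness of the special fibre
  let y := IsLocalRing.closedPoint R
  have h := hdom.trans (genericPoint_specializes y)
  haveI := SteinConn.subsingleton_integralClosureStalk fP hdom y h (subsingleton_integralClosure_stalk y) hrad
  haveI := SteinConn.connectedSpace_of_subsingleton fP y h
  have hF : _root_.IsPreconnected (fP ⁻¹' {y}) := by
    rw [← fP.range_fiberι]
    exact isPreconnected_range (fP.fiberι y).continuous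
  -- the special fibre of the cover is closed in the closure
  let res := Spec.map (CommRingCat.ofHom (IsLocalRing.residue R))
  haveI : IsClosedImmersion res := IsClosedImmersion.spec_of_surjective _ IsLocalRing.residue_surjective
  have hres : Set.range res = {y} := by
    refine Set.eq_singleton_iff_unique_mem.2 ⟨⟨IsLocalRing.closedPoint _, ?_⟩, ?_⟩
    · exact PrimeSpectrum.ext (IsLocalRing.comap_closedPoint (IsLocalRing.residue R) |> congrArg (·.asIdeal))
    · rintro _ ⟨t, rfl⟩
      rw [Subsingleton.elim (α := PrimeSpectrum (IsLocalRing.ResidueField R)) t (IsLocalRing.closedPoint _)]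
      exact IsLocalRing.comap_closedPoint (IsLocalRing.residue R)
  let Xs := pullback (π ≫ f) res
  let w : Xs ⟶ P := pullback.fst (π ≫ f) res ≫ j'
  haveI : IsProper (pullback.snd (π ≫ f) res) := by
    rw [← Iso.inv_hom_id_assoc (pullbackRightPullbackFstIso f res π) (pullback.snd (π ≫ f) res),
      pullbackRightPullbackFstIso_hom_snd]
    infer_instance
  haveI : IsProper w := by
    haveI : IsProper (w ≫ fP) := by
      rw [Category.assoc, hj', pullback.condition]
      infer_instance
    exact IsProper.of_comp w fP
  have hw : Set.range j' ∩ fP ⁻¹' {y} = Set.range w := by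
    have e : Set.range w = j' '' Set.range (pullback.fst (π ≫ f) res) := by
      rw [← Set.range_comp]
      rfl
    rw [e, Scheme.Pullback.range_fst, hres]
    ext z
    simp only [Set.mem_inter_iff, Set.mem_range, Set.mem_preimage, Set.mem_singleton_iff, Set.mem_image]
    constructor
    · rintro ⟨⟨t, rfl⟩, ht⟩
      exact ⟨t, by rw [← hj']; exact ht, rfl⟩
    · rintro ⟨t, ht, rfl⟩
      exact ⟨⟨t, rfl⟩, by rw [← Scheme.Hom.comp_apply, hj']; exact ht⟩
  have hsub : fP ⁻¹' {y} ⊆ Set.range j' := by
    by_contra hc'
    obtain ⟨z, hz, hzj⟩ := Set.not_subset.1 hc'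
    obtain ⟨x, hx⟩ := hne
    obtain ⟨x', hx'⟩ := π.surjective x
    have hu : IsOpen (Set.range j') := j'.isOpenEmbedding.isOpen_range
    have hv : IsOpen (Set.range w)ᶜ := w.isClosedMap.isClosed_range.isOpen_compl
    have hxF : j' x' ∈ fP ⁻¹' {y} := by
      show fP (j' x') = y
      rw [← Scheme.Hom.comp_apply, hj', Scheme.Hom.comp_apply, hx', hx]
    obtain ⟨t, htF, htu, htv⟩ := hF _ _ hu hv
      (fun t ht => by
        by_cases h' : t ∈ Set.range j'
        · exact Or.inl h'
        · exact Or.inr fun h'' => h' (hw.symm ▸ h'' : t ∈ Set.range j' ∩ fP ⁻¹' {y}).1)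
      ⟨_, hxF, x', rfl⟩ ⟨z, hz, fun h'' => hzj (hw.symm ▸ h'' : z ∈ Set.range j' ∩ fP ⁻¹' {y}).1⟩
    exact htv (hw ▸ ⟨htu, htF⟩)
  have hall : Set.range j' = Set.univ := by
    refine Set.eq_univ_of_forall fun z => ?_
    obtain ⟨z', hz', hzy⟩ := fP.isClosedMap.specializingMap (IsLocalRing.specializes_closedPoint (fP z))
    exact hz'.mem_open j'.isOpenEmbedding.isOpen_range (hsub hzy)
  haveI : Epi j'.base := (TopCat.epi_iff_surjective _).2 (Set.range_eq_univ.1 hall)
  haveI : IsIso j' := IsOpenImmersion.isIso j'
  haveI : IsProper (π ≫ f) := by rw [← hj']; infer_instance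
  haveI : UniversallyClosed f := UniversallyClosed.of_comp_surjective π f
  exact ⟨⟩

end Groth.Agent.NeronGrpLib
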